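import Cfsg.Agent.KZ.Ch3D4.Lab
import Cfsg.Agent.KZ.Ch3X.Fam
import Cfsg.Agent.KZ.DatX.Main
import Cfsg.Agent.S2608
import Cfsg.Agent.S0296

/-!
# KZ, characteristic `3`: the rows of `PΩ₈⁺(3 ^ f)` (helper90)

`at_d4'` (any group which is isomorphic to it), `at_d4`.
-/

set_option autoImplicit false
set_option linter.unusedSectionVars false
set_option maxHeartbeats 400000

namespace Cfsg.Agent.KZ.Ch3D4

open Cfsg Cfsg.Lie Cfsg.Agent.KZ.Ch3X Cfsg.Agent.KZ.Ch3 Cfsg.Agent.DL Cfsg.Agent.DL.PP Cfsg.Agent.DL.Ex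
  Cfsg.Agent.KZ.DatX Cfsg.Agent.Nodes.RGDChev Cfsg.Agent.Tits.Roots Matrix

/-- labels of orders `1, 4, 8, 7` -/
def TD : Tb 4 4 := ⟨![1, 4, 8, 7], ![![0, 1, 0, 0], ![0, 1, 0, 0], ![4, 1, 4, 4], ![2, 1, 2, 2]], ![[], [1], [1], [1, 0, 2, 3]]⟩

theorem okTD : TD.Ok chevD4 L4 := by decide +kernel

theorem sepTD : ∀ i j, TD.n i / Nat.gcd (TD.n i) 2 = TD.n j / Nat.gcd (TD.n j) 2 → i = j := by decide +kernel

theorem num72 {e : ℕ} (he : 0 < e) : 72 * e < 3 ^ (e * 4) := by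
  induction e, he using Nat.le_induction with
  | base => decide
  | succ e _ ih =>
    rw [add_mul, pow_add]
    omega

theorem not_comm_of_big {S : Type} [Group S] [Finite S] (hs : IsSimpleGroup S) (h : Big 81 S) : ¬ IsMulCommutative S := by
  intro hc
  have : Fact (Nat.Prime 3) := ⟨Nat.prime_three⟩
  obtain ⟨U, Z, _, π, -, h1⟩ := h
  let _ : CommGroup S := { (inferInstance : Group S) with mul_comm := hc.is_comm.comm }
  have h2 : (Nat.card S).Prime := IsSimpleGroup.prime_card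
  have h3 := h1.trans (Nat.card_le_card_of_surjective _ π.rangeRestrict_surjective)
  obtain ⟨j, hj⟩ := U.isPGroup'.exists_card_eq
  have h4 := Subgroup.card_subgroup_dvd_card (U : Subgroup S)
  rw [hj] at h3 h4
  rcases (Nat.dvd_prime h2).1 h4 with h5 | h5
  · omega
  · rw [← h5] at h2
    rw [h2.eq_one_of_pow] at h3
    omega

variable {M : Ideal AlgInt} (hM : IsPModular 3 M) {F : Type} [Field F] [Fintype F] [CharP F 3]
include hM

/-- **`PΩ₈⁺(3 ^ f)`** -/
theorem at_d4' {S : Type} [Group S] [Finite S] (i : S ≃* POmega F (quadFormPlus 4 F)) : At M S := by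
  obtain ⟨e, he, hF⟩ := exists_e F
  have hs : IsSimpleGroup S := have := S0296.result (F := F) 4 le_rfl; i.isSimpleGroup
  obtain ⟨k, _, _, _, X, ⟨s⟩⟩ := (has_plus8 hF).congr i
  have := X.finite
  have := Fintype.ofFinite ↥(GF X.F ⊤)
  have hd := det_abs (l := 4) e (mul_one 1)
  have hb : Big (3 ^ (e * 4)) S := ((em s).big X.D_qs).mono (hd.ge.trans (prod_ex X).ge)
  have hb1 : Big 81 S := hb.mono (num he le_rfl).1
  have hab := not_comm_of_big hs hb1
  have hm := allM_of_lie hM hs hab (.inr (.inr (.inr (.inr (.inl ⟨F, inferInstance, inferInstance, inferInstance, 4, le_rfl, ⟨i⟩⟩)))))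
  have hi := conj_inj hs hab
  have h0 := S2608.result (m := 4) he hF (by decide) le_rfl
  rw [if_pos rfl] at h0
  obtain ⟨o⟩ := h0
  have ho : Nat.card (Out S) = 24 * e := by
    rw [card_out_congr i, Nat.card_congr o.toEquiv, Nat.card_prod, Nat.card_eq_fintype_card, Fintype.card_perm,
      Fintype.card_fin, Nat.card_congr Multiplicative.toAdd, Nat.card_zmod]
    rfl
  obtain ⟨K, _, hK⟩ := exists_adY (em s) X.D_qs (cz X) (fun t ht h => by
    obtain ⟨c, rfl⟩ := (X.D.mem_T t).1 ht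
    rw [show c = 1 from funext fun j => Units.ext (by
      have h1 := (X.D.χ_τ _ c).symm.trans (h j)
      rwa [show chr (X.D.wt (sr j)) c = c j from chr_single j c] at h1), map_one]) hi
  obtain ⟨m, h2⟩ : Nat.gcd 2 (3 ^ e - 1) ∣ 2 := Nat.gcd_dvd_left _ _
  have h3 : ∀ i, orderOf (lab (TD.n i) (TD.x i) ^ 2) = TD.n i / Nat.gcd (TD.n i) 2 := fun i => by
    rw [orderOf_pow' _ two_ne_zero, orderOf_lab (okTD.2 i).1 (okTD.2 i).2.1]
  have hf := fam (em s) X.D_qs (cz X) (hn_sl X (mul_one 1) slD4) s.ov.comm_mem (n := 2) (fun g => by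
      have h4 := pow_mem (s.ov.pow_mem g) m
      rwa [← pow_mul, ← h2] at h4) (fun i => lab (TD.n i) (TD.x i))
    (fun i j h => sepTD i j ((h3 i).symm.trans (h.trans (h3 j))))
    (okTD.cj X ⟨e, 1, List.mem_cons_self, rfl⟩) fun A h => okTD.cj X h
  have h4 : ∀ Y : Subgroup (MulAut S), IsPGroup 3 ↥Y → InvA M Y := fun Y hY => by
    obtain ⟨θ, h5, h6, h7⟩ := hf Y hY
    exact invA_of_three (fun i => θ i.castSucc) (fun _ => hm _ (h5 _))
      (fun i j hij => h6 _ _ fun e => hij (Fin.castSucc_injective _ e)) fun σ hσ i => h7 σ hσ _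
  refine ⟨upAt_of_oa ((oa3_of o).congr i) hb1 fun h => hb.mono ?_, loAt_of hM (lo3_of_normal hK hM hi hm fun n h5 h6 => ?_)
    (p4_of_fix fun Y hY => ?_), (h4 ⊥ IsPGroup.of_bot).two, fun Y hY => .inl (h4 Y hY)⟩
  · exact le_trans (by norm_num) (Nat.pow_le_pow_right three_pos (show 12 ≤ e * 4 by omega))
  · refine lt_of_lt_of_le ?_ (hd.ge.trans (cls_ge X))
    rw [ho, show 24 * e = 3 * (8 * e) by ring] at h5
    have h7 := Nat.le_of_dvd (by omega)
      (((Nat.Prime.coprime_iff_not_dvd Nat.prime_three).2 h6).symm.dvd_of_dvd_mul_left h5)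
    have := num72 he
    omega
  · classical
    obtain ⟨θ, h5, h6, h7⟩ := hf Y hY
    refine ⟨Finset.univ.image θ, by rw [Finset.card_image_of_injective _ (inj_of_apart h6)]; rfl, fun ψ h8 => ?_⟩
    obtain ⟨j, -, rfl⟩ := Finset.mem_image.1 h8
    exact ⟨hm _ (h5 j), fun σ hσ => h7 σ hσ j⟩

/-- **`PΩ₈⁺(3 ^ f)`** -/
theorem at_d4 : At M (POmega F (quadFormPlus 4 F)) := by
  obtain ⟨e, -, hF⟩ := exists_e F
  obtain ⟨k, _, _, _, X, ⟨s⟩⟩ := has_plus8 hF
  have := (em s).finite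
  exact at_d4' hM (MulEquiv.refl _)

end Cfsg.Agent.KZ.Ch3D4
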