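import Cfsg.Agent.KZ.Ch3.Defs
import Cfsg.Agent.Lib.FrattiniBasic

/-!
# KZ, characteristic `3`, `D₄`: the group theoretic part (helper90)

* `card_le_nine`: if the derived subgroup of a `3`-group has index `9`, its images of exponent `3` have order `≤ 3 ^ 9`;
* `OA3 S`: the `3`-subgroups of `Out S` are commutative; `upAt_of_oa`;
* `lo3_of_normal`: the lower bound from a normal subgroup `Y` of the automorphism group.
-/

set_option autoImplicit false
set_option linter.unusedSectionVars false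
set_option maxHeartbeats 400000

namespace Cfsg.Agent.KZ.Ch3D4

open Cfsg Cfsg.Agent.KZ.Tool Cfsg.Agent.KZ.Red Cfsg.Agent.KZ.Res Cfsg.Agent.KZ.Ch3X Cfsg.Agent.KZ.Ch3 Subgroup
open scoped commutatorElement

/-- a group of order `9` is generated by two elements -/
theorem two_gen {H : Type} [Group H] [Finite H] (h : Nat.card H = 9) : ∃ a b : H, zpowers a ⊔ zpowers b = ⊤ := by
  have : Nontrivial H := Finite.one_lt_card_iff_nontrivial.1 (by omega)
  obtain ⟨a, ha⟩ := exists_ne (1 : H)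
  by_cases h1 : zpowers a = ⊤
  · exact ⟨a, a, by rw [h1, sup_idem]⟩
  obtain ⟨b, hb⟩ : ∃ b, b ∉ zpowers a := not_forall.1 fun h2 => h1 (eq_top_iff.2 fun x _ => h2 x)
  refine ⟨a, b, (card_eq_iff_eq_top _).1 ?_⟩
  have key : ∀ K : Subgroup H, Nat.card K = 1 ∨ Nat.card K = 3 ∨ Nat.card K = 9 := fun K => by
    have h2 : Nat.card K ∣ 3 ^ 2 := (card_subgroup_dvd_card K).trans (by rw [h]; rfl)
    obtain ⟨j, h3, h4⟩ := (Nat.dvd_prime_pow Nat.prime_three).1 h2
    interval_cases j <;> simp [h4]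
  have h2 : Nat.card (zpowers a) ≠ 1 := fun e => ha (zpowers_eq_bot.1 (card_eq_one.1 e))
  have h3 : Nat.card (zpowers a) ≤ Nat.card ↥(zpowers a ⊔ zpowers b) := card_le_of_le le_sup_left
  have h4 : Nat.card (zpowers a) ≠ Nat.card ↥(zpowers a ⊔ zpowers b) := fun e =>
    hb (eq_of_le_of_card_ge le_sup_left e.ge ▸ mem_sup_right (mem_zpowers b))
  have h5 := key (zpowers a)
  have h6 := key (zpowers a ⊔ zpowers b)
  omega

theorem card_le_nine {G : Type} [Group G] [Finite G] (hG : IsPGroup 3 G) (N : Subgroup G) [hN : N.Normal]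
    (h1 : _root_.commutator G = N) (h9 : N.index = 9) {Z : Type} [CommGroup Z] (h3 : ∀ z : Z, z ^ 3 = 1) (π : N →* Z) :
    Nat.card π.range ≤ 3 ^ 9 := by
  classical
  have : Fact (Nat.Prime 3) := ⟨Nat.prime_three⟩
  obtain ⟨a, b, hab⟩ := two_gen (H := G ⧸ N) h9
  obtain ⟨a, rfl⟩ := QuotientGroup.mk_surjective a
  obtain ⟨b, rfl⟩ := QuotientGroup.mk_surjective b
  have h2 : zpowers a ⊔ zpowers b = ⊤ := by
    refine frattini_nongenerating (eq_top_iff.2 (le_trans ?_
      (sup_le_sup_left (h1.ge.trans (Lib.FrattiniBasic.commutator_le_frattini hG)) _)))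
    have h4 := congrArg (comap (QuotientGroup.mk' N)) hab
    rw [comap_top, ← QuotientGroup.mk'_apply, ← QuotientGroup.mk'_apply, ← MonoidHom.map_zpowers,
      ← MonoidHom.map_zpowers, ← Subgroup.map_sup, comap_map_eq, QuotientGroup.ker_mk'] at h4
    exact h4.ge
  have hx : ∀ g : G, g * ⁅a, b⁆ * g⁻¹ ∈ N := fun g =>
    hN.conj_mem _ (h1 ▸ commutator_mem_commutator (mem_top a) (mem_top b)) g
  let K := normalClosure ({⁅a, b⁆} : Set G)
  have h4 : N ≤ K := by
    rw [← h1, _root_.commutator_def, commutator_le]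
    intro x _ y _
    have h5 : Commute (a : G ⧸ K) b := by
      rw [← commutatorElement_eq_one_iff_commute]
      exact (map_commutatorElement (QuotientGroup.mk' K) a b).symm.trans
        ((QuotientGroup.eq_one_iff _).2 (subset_normalClosure rfl))
    have h6 : ∀ c : G, Commute (a : G ⧸ K) c → Commute (b : G ⧸ K) c → ∀ x : G, Commute (x : G ⧸ K) c :=
      fun c h7 h8 x => by
        have h9 : zpowers a ⊔ zpowers b ≤ (centralizer {(c : G ⧸ K)}).comap (QuotientGroup.mk' K) :=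
          sup_le (zpowers_le_of_mem (mem_centralizer_singleton_iff.2 h7))
            (zpowers_le_of_mem (mem_centralizer_singleton_iff.2 h8))
        exact mem_centralizer_singleton_iff.1 (h9 (h2 ▸ mem_top x))
    rw [← QuotientGroup.eq_one_iff]
    exact (map_commutatorElement (QuotientGroup.mk' K) x y).trans (commutatorElement_eq_one_iff_commute.2
      (h6 y (h6 a (Commute.refl _) h5.symm y).symm (h6 b h5 (Commute.refl _) y).symm x))
  have := Fintype.ofFinite (G ⧸ N)
  let T : Finset Z := Finset.univ.image fun q : G ⧸ N => π ⟨_, hx q.out⟩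
  have h5 : π.range ≤ closure (T : Set Z) := by
    have h6 : K ≤ ((closure (T : Set Z)).comap π).map N.subtype := by
      refine (closure_le _).2 fun y hy => ?_
      obtain ⟨_, rfl, h7⟩ := Group.mem_conjugatesOfSet_iff.1 hy
      obtain ⟨g, rfl⟩ := isConj_iff.1 h7
      obtain ⟨n, hn⟩ := QuotientGroup.mk_out_eq_mul N g
      refine ⟨⟨_, hx g⟩, subset_closure (Finset.mem_coe.2 (Finset.mem_image.2 ⟨(g : G ⧸ N), Finset.mem_univ _, ?_⟩)), rfl⟩
      have h8 : (⟨_, hx (g : G ⧸ N).out⟩ : N) =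
          ⟨_, hN.conj_mem n n.2 g⟩ * ⟨_, hx g⟩ * (⟨_, hN.conj_mem n n.2 g⟩ : N)⁻¹ := Subtype.ext (by
        simp only [hn, coe_mul, coe_inv]
        group)
      rw [h8, map_mul, map_mul, map_inv, mul_inv_cancel_comm]
    rintro _ ⟨y, rfl⟩
    obtain ⟨z, h7, h8⟩ := h6 (h4 y.2)
    rwa [← show z = y from Subtype.ext h8]
  have hT : T.card ≤ 9 := Finset.card_image_le.trans (by rw [Finset.card_univ, ← Nat.card_eq_fintype_card]; exact h9.le)
  have h6 : closure (T : Set Z) ≤ π.range := (closure_le _).2 fun z hz => by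
    obtain ⟨q, -, rfl⟩ := Finset.mem_image.1 (Finset.mem_coe.1 hz)
    exact ⟨_, rfl⟩
  rw [le_antisymm h5 h6]
  refine (Nat.le_of_dvd (by positivity) (card_dvd_exponent_pow_rank' _ (n := 3) fun g => Subtype.ext (h3 g))).trans ?_
  exact Nat.pow_le_pow_right three_pos ((rank_closure_finset_le_card T).trans hT)

/-- the `3`-subgroups of `Out S` are commutative -/
def OA3 (S : Type) [Group S] : Prop := ∀ X : Subgroup (Out S), IsPGroup 3 ↥X → ∀ a ∈ X, ∀ b ∈ X, a * b = b * a

variable {M : Ideal AlgInt} {S : Type} [Group S]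

theorem OA3.congr {T : Type} [Group T] (e : S ≃* T) (h : OA3 T) : OA3 S := fun X hX a ha b hb =>
  (outCongr e).injective (by
    rw [map_mul, map_mul]
    exact h _ (hX.map (outCongr e).toMonoidHom) _ ⟨a, ha, rfl⟩ _ ⟨b, hb, rfl⟩)

theorem oa3_of {C : Type} [CommGroup C] (e : Out S ≃* Equiv.Perm (Fin 4) × C) : OA3 S := fun X hX a ha b hb => by
  have : Fact (Nat.Prime 3) := ⟨Nat.prime_three⟩
  have h1 := hX.map ((MonoidHom.fst _ _).comp e.toMonoidHom)
  obtain ⟨j, hj⟩ := h1.exists_card_eq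
  have h2 := card_subgroup_dvd_card (X.map ((MonoidHom.fst _ _).comp e.toMonoidHom))
  rw [hj, Nat.card_eq_fintype_card, Fintype.card_perm, Fintype.card_fin] at h2
  have h3 : j ≤ 1 := by
    by_contra h4
    exact absurd ((pow_dvd_pow 3 (show 2 ≤ j by omega)).trans h2) (by decide)
  have h4 : IsCyclic (X.map ((MonoidHom.fst _ _).comp e.toMonoidHom)) :=
    isCyclic_of_card_dvd_prime (p := 3) (by rw [hj]; simpa using pow_dvd_pow 3 h3)
  refine e.injective ?_
  rw [map_mul, map_mul]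
  exact Prod.ext (congrArg Subtype.val (h4.commGroup.mul_comm ⟨_, a, ha, rfl⟩ ⟨_, b, hb, rfl⟩)) (mul_comm _ _)

theorem upAt_of_oa [Finite S] (ho : OA3 S) (hb : Big 81 S) (hb' : 9 ∣ Nat.card (Out S) → Big (3 ^ 9 + 1) S) :
    UpAt M S := fun A _ _ N hA ⟨e⟩ P hP => by
  exfalso
  have := hA.normal
  have : Fact (Nat.Prime 3) := ⟨Nat.prime_three⟩
  have hc := hA.cent
  have key' : ∀ n, Big n S → ∃ (Q : Sylow 3 A) (Z : Type) (_ : CommGroup Z) (π : ↥(N.subgroupOf Q) →* Z),
      (∀ z : Z, z ^ 3 = 1) ∧ n ≤ Nat.card π.range := fun n h => by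
    obtain ⟨U, Z, _, π, h1, h2⟩ := big_congr e h
    obtain ⟨Q, hQ⟩ := U.exists_comap_subtype_eq
    let e : ↥(N.subgroupOf Q) →* ↥(U : Subgroup ↥N) :=
      { toFun := fun x => ⟨⟨x.1.1, x.2⟩, by rw [← hQ]; exact x.1.2⟩
        map_one' := rfl
        map_mul' := fun _ _ => rfl }
    have he : Function.Surjective e := fun y => ⟨⟨⟨y.1.1, hQ.ge y.2⟩, y.1.2⟩, rfl⟩
    refine ⟨Q, Z, _, π.comp e, h1, h2.trans (le_of_eq ?_)⟩
    rw [MonoidHom.range_comp, MonoidHom.range_eq_top.2 he, ← MonoidHom.range_eq_map]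
  have hle : ∀ Q : Sylow 3 A, _root_.commutator ↥(Q : Subgroup A) ≤ N.subgroupOf Q := fun Q => by
    rw [_root_.commutator_def, commutator_le]
    intro x _ y _
    rw [mem_subgroupOf, ← outHom_ker hc, MonoidHom.mem_ker]
    refine (map_commutatorElement ((outHom N).comp (Q : Subgroup A).subtype) x y).trans
      (commutatorElement_eq_one_iff_mul_comm.2 ?_)
    exact ho.congr e _ (Q.isPGroup'.of_surjective _
      ((outHom N).comp (Q : Subgroup A).subtype).rangeRestrict_surjective) _ ⟨x, rfl⟩ _ ⟨y, rfl⟩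
  have h9 : ∀ Q : Sylow 3 A, (_root_.commutator ↥(Q : Subgroup A)).index = 9 := fun Q => (nab_eq Q P).trans hP
  by_cases h : 9 ∣ N.index
  · obtain ⟨Q, Z, _, π, h1, h2⟩ := key' _ (hb' (h.trans (card_out_congr e ▸ index_dvd_out hc)))
    have h3 : (N.subgroupOf Q).index = 9 := by
      refine Nat.dvd_antisymm (h9 Q ▸ index_dvd_of_le (hle Q)) ?_
      have h4 : N.relIndex Q * (Q ⊔ N : Subgroup A).index = N.index := by
        rw [← relIndex_sup_right, relIndex_mul_index le_sup_right]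
      refine Nat.Coprime.dvd_of_dvd_mul_right (Nat.Coprime.pow_left 2 ((Nat.Prime.coprime_iff_not_dvd
        Nat.prime_three).2 fun h5 => Q.not_dvd_index (h5.trans (index_dvd_of_le le_sup_left)))) (h4 ▸ h)
    have h4 : _root_.commutator ↥(Q : Subgroup A) = N.subgroupOf Q := by
      refine eq_of_le_of_card_ge (hle Q) (le_of_eq (Nat.eq_of_mul_eq_mul_right (by decide : 0 < 9) ?_))
      conv_lhs => rw [← h3, card_mul_index]
      rw [← h9 Q, card_mul_index]
    exact absurd (h2.trans (card_le_nine Q.isPGroup' _ h4 h3 h1 π)) (by omega)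
  · obtain ⟨Q, Z, _, π, h1, h2⟩ := key' _ hb
    obtain ⟨a, ha⟩ := Q.isPGroup'.index (N.subgroupOf Q)
    have h3 : a ≤ 1 := by
      by_contra h4
      exact h ((pow_dvd_pow 3 (show 2 ≤ a by omega)).trans (ha ▸ relIndex_dvd_index_of_normal N Q))
    obtain ⟨c, h4, h5⟩ := key (N.subgroupOf Q) h1 π
      (isCyclic_of_card_dvd_prime (p := 3) (by rw [← index, ha]; simpa using pow_dvd_pow 3 h3)) ha
    rw [h9] at h5
    have h6 := h2.trans h4
    interval_cases a
    · simp at h5 h6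
      omega
    · exact absurd (h6.trans (Nat.pow_le_pow_left (show c ≤ 3 by omega) _)) (by norm_num)

/-- the lower bound from a normal subgroup -/
theorem lo3_of_normal [Finite S] {Q : ℕ} {Y : Subgroup (MulAut S)} [Y.Normal] (h : AdY Q Y) (hM : IsPModular 3 M)
    (hi : Function.Injective (MulAut.conj : S →* MulAut S)) (hm : AllM M S)
    (hk : ∀ n, n ∣ Nat.card (Out S) → ¬ 3 ∣ n → 9 * n < Q) : Lo3 M S := fun A _ _ N _ e hc h3 => by
  refine h.ten_le hM hi hm e h3 (K := (au e).range ⊔ Y) le_sup_right le_sup_left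
    (hk _ (relIndex_dvd_index_of_normal _ _) fun h4 => ?_)
  rw [← relIndex_mul_relIndex _ Y _ h.inn le_sup_right, relIndex_sup_right] at h4
  refine ((Nat.Prime.dvd_mul Nat.prime_three).1 h4).elim h.cop fun h5 => h3 (h5.trans ?_)
  rw [← relIndex_range e hc]
  exact relIndex_dvd_of_le_left _ h.inn

end Cfsg.Agent.KZ.Ch3D4
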