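import Cfsg.Agent.KZ.Ch3D4.Grp
import Cfsg.Agent.KZ.Ch3X.Xs
import Cfsg.Agent.KZ.Lie.ApiE
import Cfsg.Agent.KZ.Lie.DGen

/-!
# KZ, characteristic `3`, `D₄`: labels (helper90)

* `lb_tw`: the label of the product with a linear character; `sq_cj`: the square of the label of a character of `S`;
* `exists_fix`: a character with a given invariant label which is fixed by a `3`-group; `fam`;
* `cent_bot`, `exists_adY`: the group of inner-diagonal automorphisms.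
-/

set_option autoImplicit false
set_option linter.unusedSectionVars false
set_option maxHeartbeats 400000

namespace Cfsg.Agent.KZ.Ch3D4

open Cfsg Cfsg.Agent.KZ.Tool Cfsg.Agent.KZ.Red Cfsg.Agent.KZ.Res Cfsg.Agent.KZ.Ch3X Cfsg.Agent.KZ.Ch3 Cfsg.Agent.DL
  Cfsg.Agent.DL.PP Cfsg.Agent.DL.Uni Cfsg.Agent.DL.Asm Cfsg.Agent.DL.St Cfsg.Agent.Nodes.Reps Cfsg.Agent.Tits.Roots
  Cfsg.Agent.Characters.Core Matrix

section Gen

variable {p : ℕ} [Fact p.Prime] {k : Type} [Field k] [CharP k p] {Y : Type} [Group Y] {N : Type} [Fintype N]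
  [DecidableEq N] {ρ : Y →* GL N k} {F : MulAut Y} {G : Subgroup Y} [IsAlgClosed k] {D : Datum p ρ F G}

/-- the label of the product with a linear character -/
theorem lb_tw [Fintype ↥(GF F G)] (f : Lie.Fr D) {χ : ↥(GF F G) → ℂ} {c : D.R → ℂˣ} (h : Lb D f.d f.ζ χ c)
    {l : ↥(GF F G) →* ℂˣ} (hl : Lie.Pt p l) {n : ℕ} (hn : ∀ g, l g ^ n = 1) :
    ∃ c', Lb D f.d f.ζ (fun g => l g * χ g) c' ∧ Cj D (c' ^ n) (c ^ n) := by
  obtain ⟨y, hy, w, hw, θ, c₀, v, h1, h2, h3⟩ := h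
  have h0 := Lie.ApiE.pl_lin hl
  obtain ⟨cl, h4⟩ := h0.lab f hy hw
  have h5 : cl ^ n = 1 := eq_of_chr D fun x => Units.ext (by
    rw [map_pow, Units.val_pow_eq_pow_val, ← h4 x, lin_apply _ (nrm_mem f.L f.hζ hy hw x).2, ← Units.val_pow_eq_pow_val,
      hn, map_one])
  have h6 : ∀ g : ↥(GF F G), R D (cj y D.T) (lin l * θ) g = l g * R D (cj y D.T) θ g := fun g => by
    rw [← lin_coe]
    exact (sys' D).pconst _ h3.tor _ _ (Levi.pconst_of_lin h0.lin h0.uni) g g.2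
  refine ⟨c₀ * cl, ⟨y, hy, w, hw, lin l * θ, c₀ * cl, 1, fun x => ?_, rel_one D _, h3.tor, ⟨?_, fun a ha b hb => ?_⟩,
    ?_, fun e => h3.ne ?_⟩, ?_⟩
  · rw [Pi.mul_apply, h4, h1, map_mul, Units.val_mul, mul_comm]
  · rw [Pi.mul_apply, h0.lin.one, h3.lin.one, mul_one]
  · simp only [Pi.mul_apply, h0.lin.mul a ha.2 b hb.2, h3.lin.mul a ha b hb]
    ring
  · obtain ⟨ε, h7, h8⟩ := h3.tru
    refine ⟨ε, h7, ?_⟩
    convert isCharacter_mul (Characters.Linear.isCharacter_hom l) h8 using 1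
    funext g
    show ε * _ = l g * (ε * _)
    rw [h6, mul_left_comm]
  · rw [← CharactersDeep.AbelianQuotient.classInner_linear_mul l, ← e]
    exact congrArg (classInner · _) (funext fun g => (h6 g).symm)
  · rw [mul_pow, h5, mul_one]
    exact Cj.pow ⟨v, h2⟩ n

/-- an element which centralises `U ^ F` -/
theorem exists_of_cent (h : D.QS) {g : Y} (hg : g ∈ G) (hc : ∀ u ∈ D.U ⊓ GF F G, g * u = u * g) :
    ∃ u ∈ D.U, ∃ t ∈ D.T, g = u * t ∧ ∀ i, D.χ (sr i) t = 1 := by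
  have h3 : g ∈ St.Par D.sbn ∅ := by
    by_contra hB
    obtain ⟨i, a, ha, h3⟩ := St.exists_descent D.sbn hg hB
    obtain ⟨u, hu, h4, h5⟩ := St.move h i
    refine h5 a ha (h3 u hu (St.U_le_Par D.sbn _ ?_))
    rwa [mul_assoc, ← hc u ⟨hu, D.U_le_G hu, h4⟩, inv_mul_cancel_left]
  obtain ⟨u, hu, t, ht, e⟩ := (St.mem_Par_empty D.sbn).1 h3
  refine ⟨u, hu, t, ht, e, fun i => ?_⟩
  obtain ⟨a, ha⟩ := exists_fix_unit h
  obtain ⟨x, hx, h4⟩ := exists_kap_fix h (a := fun i => (a i : k)) fun i => by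
    rw [ha, Units.val_mul, Units.val_pow_eq_pow_val]
  have h5 : t * x * t⁻¹ = u⁻¹ * x * u := by
    have h6 := hc x hx
    rw [e] at h6
    rw [mul_inv_eq_iff_eq_mul, mul_assoc, mul_assoc, ← h6]
    group
  have h6 := kap_conj i ht hx.1
  rw [h5, kap_mul i (mul_mem (inv_mem hu) hx.1) hu, kap_mul i (inv_mem hu) hx.1, kap_inv i hu, h4] at h6
  exact mul_right_cancel₀ (a i).ne_zero (by linear_combination -h6)

/-- the number of characters of degree prime to `p` -/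
theorem cls_le (hZ : CZ D) : Nat.card (Quotient (clsSetoid D)) ≤
    Nat.card {χ : IrrCharacter ↥(GF F G) // ¬ p ∣ charDegree (χ : ↥(GF F G) → ℂ)} := by
  have := D.amb.finite_GF G
  have := Fintype.ofFinite ↥(GF F G)
  have := finite_irr (G := ↥(GF F G))
  obtain ⟨f⟩ := Lie.nonempty_fr D
  choose χ h1 h2 h3 using fun ω : Quotient (clsSetoid D) => exists_of_fx f.L f.hζ hZ ω.out.2.choose_spec
  refine Nat.card_le_card_of_injective (fun ω => ⟨⟨χ ω, h1 ω⟩, h2 ω⟩) fun ω ω' e => Quotient.out_equiv_out.1 ?_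
  have e' : χ ω = χ ω' := congrArg (·.1.1) e
  exact Lb.rel f.L f.hζ (h1 ω) (h3 ω) (e' ▸ h3 ω')

end Gen

variable {k : Type} [Field k] [CharP k 3] {Y : Type} [Group Y] {N : Type} [Fintype N]
  [DecidableEq N] {ρ : Y →* GL N k} {F : MulAut Y} {G : Subgroup Y} [IsAlgClosed k] {D : Datum 3 ρ F G}
  {Adm : Matrix D.R D.R ℤ → Prop} {S : Type} [Group S] (E : Em D Adm S)

theorem uni_mem {u : ↥(GF F G)} (hu : IsUni 3 (u : Y)) : u ∈ E.j.range := by
  have := E.normal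
  obtain ⟨j, hj⟩ := hu
  obtain ⟨m, hm⟩ := exists_pow_eq_self_of_coprime (x := u) (n := E.j.range.index) (by
    rw [← Subgroup.orderOf_coe, hj]
    exact ((Nat.Prime.coprime_iff_not_dvd Nat.prime_three).2 E.cop).symm.pow_right j)
  exact hm ▸ pow_mem (Subgroup.pow_index_mem _ u) m

theorem uni_of_U {u : Y} (hu : u ∈ D.U) : IsUni 3 u := by
  obtain ⟨n, hn⟩ := D.isPGroup_U ⟨u, hu⟩
  obtain ⟨j, -, hj⟩ := (Nat.dvd_prime_pow Nat.prime_three).1 (orderOf_dvd_of_pow_eq_one (congrArg Subtype.val hn))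
  exact ⟨j, hj⟩

/-- the centraliser of `S` in an adjoint group -/
theorem cent_bot (h : D.QS) (ha : ∀ t ∈ D.T, (∀ i, D.χ (sr i) t = 1) → t = 1)
    (hi : Function.Injective (MulAut.conj : S →* MulAut S)) :
    Subgroup.centralizer (E.j.range : Set ↥(GF F G)) = ⊥ := by
  rw [eq_bot_iff]
  intro g hg
  obtain ⟨u, hu, t, ht, e, h1⟩ := exists_of_cent h g.2.1 fun u hu =>
    congrArg Subtype.val (hg ⟨u, hu.2⟩ (uni_mem E (uni_of_U hu.1))).symm
  rw [ha t ht h1, mul_one] at e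
  obtain ⟨s, rfl⟩ := uni_mem E (u := g) (e ▸ uni_of_U hu)
  have h2 : s = 1 := hi (by
    rw [map_one]
    ext x
    refine E.inj ?_
    rw [MulAut.conj_apply, map_mul, map_mul, map_inv, ← hg _ ⟨x, rfl⟩, mul_inv_cancel_right, MulAut.one_apply])
  rw [h2, map_one]
  exact one_mem _

theorem j_au [Finite S] [Finite ↥(GF F G)] [E.j.range.Normal] (g : ↥(GF F G)) (s : S) :
    E.j (au E.e.symm g s) = g * E.j s * g⁻¹ := by
  conv_lhs => rw [← E.e.symm_apply_apply s, au_apply]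
  exact (MonoidHom.apply_ofInjective_symm E.inj _).trans (Subtype.ext (MulAut.conjNormal_apply g (E.e s) ▸ rfl))

include E in
/-- the inner-diagonal automorphisms -/
theorem exists_adY [Finite S] (h : D.QS) (hZ : CZ D) (ha : ∀ t ∈ D.T, (∀ i, D.χ (sr i) t = 1) → t = 1)
    (hi : Function.Injective (MulAut.conj : S →* MulAut S)) :
    ∃ K : Subgroup (MulAut S), K.Normal ∧ AdY (Nat.card (Quotient (clsSetoid D))) K := by
  have := D.amb.finite_GF G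
  have := E.normal
  refine ⟨_, ⟨?_⟩, adY_of E.e.symm (cent_bot E h ha hi) E.cop (cls_le hZ)⟩
  rintro _ ⟨y, rfl⟩ σ
  obtain ⟨g, α, A, hA, -, h1⟩ := E.aut σ
  refine ⟨g * hA.aut y * g⁻¹, MulEquiv.ext fun s => E.inj ?_⟩
  obtain ⟨s, rfl⟩ := σ.surjective s
  rw [j_au, MulAut.mul_apply, MulAut.mul_apply, MulAut.inv_apply_self, h1, h1, j_au, map_mul, map_mul, map_inv]
  group

variable [Fintype ↥(GF F G)] {E} {f : Lie.Fr D} {ψ : IrrCharacter S} {c c' : D.R → ℂˣ}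

/-- the power of the label is determined by the character of `S` -/
theorem sq_cj (hab : ∀ x y : ↥(GF F G), x * y * x⁻¹ * y⁻¹ ∈ E.j.range) {n : ℕ} (hn : ∀ g : ↥(GF F G), g ^ n ∈ E.j.range)
    (h : E.L f ψ c) (h' : E.L f ψ c') : Cj D (c ^ n) (c' ^ n) := by
  have := E.normal
  obtain ⟨χ, -, h1, h2⟩ := h
  obtain ⟨χ', -, h3, h4⟩ := h'
  obtain ⟨l, h5, h6⟩ := DGen.twist hab h2 h4
  obtain ⟨c₁, h7, h8⟩ := lb_tw f h1 (l := l) (fun u hu => h5 u (uni_mem E hu)) (n := n) fun g => by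
    rw [← map_pow, h5 _ (hn g)]
  rw [← funext h6] at h7
  exact h8.symm.trans (Cj.pow (Lb.rel f.L f.hζ χ'.2 h7 h3) n)

variable (E f) in
/-- a character with an invariant label which is fixed by a `3`-group -/
theorem exists_fix (h : D.QS) (hZ : CZ D) (hN : HN D) (hF : Cj D c (mon D.Mxᵀ c)) (hA : ∀ A, Adm A → Cj D c (mon Aᵀ c))
    (X : Subgroup (MulAut S)) (hX : IsPGroup 3 ↥X) : ∃ ψ, E.L f ψ c ∧ ∀ σ ∈ X, Fixes σ ψ := by
  have := E.finite
  have := Fintype.ofFinite S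
  have := Fintype.ofFinite ↥E.j.range
  obtain ⟨w, hw⟩ := hF.exists_fx
  obtain ⟨χ, h1, h2, h3⟩ := exists_of_fx f.L f.hζ hZ hw
  obtain ⟨ψ, -, h4, h5⟩ := exists_fixed (ρ := fun s => χ (E.j s)) ⟨isCharacter_comp E.j (isIrr_isCharacter h1), by
    unfold charDegree at h2 ⊢
    simpa only [map_one] using h2⟩ X hX fun σ _ x => by
      obtain ⟨g, α, A, h6, h7, h8⟩ := E.aut σ
      obtain ⟨u, hu⟩ := (hA A h7).symm
      have h9 := Lb.eq f.L f.hζ h hZ hN (tr h6.aut ⟨χ, h1⟩).2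
        (by rwa [deg_eq (χ := tr h6.aut ⟨χ, h1⟩) (ψ := ⟨χ, h1⟩) (by rw [tr_apply, map_one])]) h1 h2
        ((h3.aut h6).of_rel hu) h3
      rw [h8, Blocks.Basic.irr_conj h1]
      exact congrFun h9 _
  refine ⟨ψ, ⟨⟨χ, h1⟩, h2, h3, Res.over_iff.2 fun e => h4 ?_⟩, h5⟩
  rw [← e, ← ip_comp E.e]
  simp only [tr_apply, MulEquiv.symm_apply_apply]
  rfl

variable (E) in
/-- a family of characters which are fixed by a `3`-group -/
theorem fam (h : D.QS) (hZ : CZ D) (hN : HN D) (hab : ∀ x y : ↥(GF F G), x * y * x⁻¹ * y⁻¹ ∈ E.j.range) {n : ℕ}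
    (hn : ∀ g : ↥(GF F G), g ^ n ∈ E.j.range) {ι : Type} (c : ι → D.R → ℂˣ)
    (hc : ∀ i j, orderOf (c i ^ n) = orderOf (c j ^ n) → i = j) (hF : ∀ i, Cj D (c i) (mon D.Mxᵀ (c i)))
    (hA : ∀ A, Adm A → ∀ i, Cj D (c i) (mon Aᵀ (c i))) (X : Subgroup (MulAut S)) (hX : IsPGroup 3 ↥X) :
    ∃ θ : ι → IrrCharacter S, (∀ i, ¬ 3 ∣ charDegree (θ i : S → ℂ)) ∧ (∀ i j, i ≠ j → Apart (θ i) (θ j)) ∧
      ∀ σ ∈ X, ∀ i, Fixes σ (θ i) := by
  obtain ⟨f⟩ := Lie.nonempty_fr D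
  choose θ h1 h2 using fun i => exists_fix E f h hZ hN (hF i) (fun A h3 => hA A h3 i) X hX
  refine ⟨θ, fun i => (h1 i).deg, fun i j hij σ e => hij (hc i j ?_), fun σ hσ i => h2 i σ hσ⟩
  obtain ⟨A, h3, h4⟩ := E.L_aut f σ
  have h5 := h4 1 _ _ (h1 i)
  rw [pow_one, pow_one, show tr σ (θ i) = θ j from Subtype.ext (funext e)] at h5
  exact (sq_cj hab hn (h5.of_cj (hA A h3 i).symm) (h1 j)).orderOf_eq

end Cfsg.Agent.KZ.Ch3D4
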